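import Groth.Agent.An.H449.Post

/-!
# Base change along local homeomorphisms on the classical sites

* `isIso_bc`: for a cartesian square of spaces with `g`, `g'` local homeomorphisms, the degree zero base
  change map `g^* f_* F ⟶ f'_* g'^* F` is an isomorphism, for every `F`;
* `clBC_of_localHomeo`: `ClBC w K` for all `K : DCl X`;
* `isIso_of_clPullD`: joint conservativity of `clPullD` for jointly surjective local homeomorphisms.
-/

set_option autoImplicit false
open CategoryTheory CategoryTheory.Limits Opposite TopologicalSpace Topology An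

attribute [local instance] HasDerivedCategory.standard

noncomputable section
namespace Groth.Agent.An.H449.ClEt

open Groth.Agent.An.H884.ClBC Groth.Agent.An.H891.ClSq Groth.Agent.An.H449.Post
  Groth.Agent.Etrest.RDer3 Groth.Agent.Etrest.RDer4 Groth.Agent.Etrest.RDer5
  Groth.Agent.An.H891.Geom

section mate

universe v₁ v₂ v₃ v₄ u₁ u₂ u₃ u₄

variable {A : Type u₁} [Category.{v₁} A] {B : Type u₂} [Category.{v₂} B]
  {A' : Type u₃} [Category.{v₃} A'] {B' : Type u₄} [Category.{v₄} B']
  {Rf : A ⥤ B} {Rf' : A' ⥤ B'} {L₁ L₂ : B ⥤ B'} {Rg : B' ⥤ B} {L₁' L₂' : A ⥤ A'} {Rg' : A' ⥤ A}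
  (adj₁ : L₁ ⊣ Rg) (adj₂ : L₂ ⊣ Rg) (adj₁' : L₁' ⊣ Rg') (adj₂' : L₂' ⊣ Rg')
  (α : Rg' ⋙ Rf ⟶ Rf' ⋙ Rg)

open Groth.Agent.EtpbcB.MateCalc

/-- Base change maps for two choices of the left adjoints. -/
theorem bc_leftAdjointUniq (F : A) :
    (adj₁.leftAdjointUniq adj₂).hom.app (Rf.obj F) ≫ bc adj₂ adj₂' α F =
      bc adj₁ adj₁' α F ≫ Rf'.map ((adj₁'.leftAdjointUniq adj₂').hom.app F) := by
  apply (adj₁.homEquiv _ _).injective
  rw [Adjunction.homEquiv_unit, Adjunction.homEquiv_unit, Functor.map_comp, Functor.map_comp,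
    Adjunction.unit_leftAdjointUniq_hom_app_assoc, unit_bc, reassoc_of% (unit_bc adj₁ adj₁' α F)]
  have h := α.naturality ((adj₁'.leftAdjointUniq adj₂').hom.app F)
  simp only [Functor.comp_map] at h
  rw [← h, ← Rf.map_comp_assoc, Adjunction.unit_leftAdjointUniq_hom_app]

theorem isIso_bc_of_isIso (F : A) (h : IsIso (bc adj₂ adj₂' α F)) : IsIso (bc adj₁ adj₁' α F) := by
  have h1 := bc_leftAdjointUniq adj₁ adj₂ adj₁' adj₂' α F
  have h2 : IsIso (bc adj₁ adj₁' α F ≫ Rf'.map ((adj₁'.leftAdjointUniq adj₂').hom.app F)) := by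
    rw [← h1]
    infer_instance
  exact IsIso.of_isIso_comp_right _ (Rf'.map ((adj₁'.leftAdjointUniq adj₂').hom.app F))

end mate

section iso

variable {T : Type} [TopologicalSpace T]

/-- A bijective morphism of the classical site is an isomorphism. -/
theorem isIso_of_bijective {A B : Cl T} (h : A ⟶ B) (hb : Function.Bijective h.toFun) : IsIso h := by
  have h1 : IsHomeomorph h.toFun :=
    { continuous := h.continuous
      isOpenMap := (isLocalHomeomorph_toFun h).isOpenMap
      bijective := hb }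
  let e := h1.homeomorph
  refine ⟨⟨e.symm, e.symm.continuous, fun b => ?_⟩, ?_, ?_⟩
  · obtain ⟨a, rfl⟩ := e.surjective b
    rw [Homeomorph.symm_apply_apply]
    exact (h.over a).symm
  · apply Cl.hom_ext
    funext a
    exact e.symm_apply_apply a
  · apply Cl.hom_ext
    funext b
    exact e.apply_symm_apply b

/-- A morphism of abelian sheaves which is bijective on sections is an isomorphism. -/
theorem isIso_of_app {F G : Cl.Ab T} (φ : F ⟶ G) (h : ∀ U : Cl T, IsIso (φ.hom.app (op U))) :
    IsIso φ := by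
  have h1 : IsIso ((sheafToPresheaf _ _).map φ) := by
    have : ∀ U, IsIso (((sheafToPresheaf _ _).map φ).app U) := fun U => h U.unop
    exact NatIso.isIso_of_isIso_app _
  exact isIso_of_reflects_iso φ (sheafToPresheaf _ _)

theorem exists_kinj (K : DCl T) :
    ∃ I : CochainComplex (Cl.Ab T) ℤ, I.IsKInjective ∧ Nonempty (K ≅ DerivedCategory.Q.obj I) := by
  obtain ⟨I, f, hI, hf⟩ := (hasKInj T).out (DerivedCategory.Q.objPreimage K)
  exact ⟨I, hI, ⟨(DerivedCategory.Q.objObjPreimageIso K).symm ≪≫ asIso (DerivedCategory.Q.map f)⟩⟩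

end iso

section square

variable {X Y X' Y' : Type} [TopologicalSpace X] [TopologicalSpace Y] [TopologicalSpace X']
  [TopologicalSpace Y'] {f : C(X, Y)} {g : C(Y', Y)} {f' : C(X', Y')} {g' : C(X', X)}
  (w : f.comp g' = g.comp f') (hg : IsLocalHomeomorph g) (hg' : IsLocalHomeomorph g')

/-- The square is cartesian on points. -/
def Cart (_ : f.comp g' = g.comp f') : Prop :=
  ∀ (x : X) (y' : Y'), f x = g y' → ∃! x' : X', g' x' = x ∧ f' x' = y'

/-- The comparison map of fibre products. -/
def tau (A : Cl Y') : (post g' hg').obj ((clBC f').obj A) ⟶ (clBC f).obj ((post g hg).obj A) where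
  toFun q := ⟨(g' q.1.1, q.1.2), (w_apply w q.1.1).trans (congrArg g q.2)⟩
  continuous := Continuous.subtype_mk ((g'.continuous.comp
    (continuous_fst.comp continuous_subtype_val)).prodMk
      (continuous_snd.comp continuous_subtype_val)) _
  over _ := rfl

theorem tau_bijective (hw : Cart w) (A : Cl Y') :
    Function.Bijective (tau w hg hg' A).toFun := by
  constructor
  · intro q q' h
    have h1 : g' q.1.1 = g' q'.1.1 := congrArg (fun r => r.1.1) h
    have h2 : q.1.2 = q'.1.2 := congrArg (fun r => r.1.2) h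
    have h3 : f' q.1.1 = f' q'.1.1 := by
      rw [q.2, q'.2, h2]
    obtain ⟨x', _, hu⟩ := hw (g' q.1.1) (f' q.1.1) (w_apply w _)
    have e1 := hu q.1.1 ⟨rfl, rfl⟩
    have e2 := hu q'.1.1 ⟨h1.symm, h3.symm⟩
    exact Subtype.ext (Prod.ext (e1.trans e2.symm) h2)
  · intro r
    obtain ⟨x', ⟨h1, h2⟩, _⟩ := hw r.1.1 (A.p r.1.2) r.2
    exact ⟨⟨(x', r.1.2), h2⟩, Subtype.ext (Prod.ext h1 rfl)⟩

/-- The explicit base change morphism for restrictions. -/
def bcExp (F : Cl.Ab X) :
    (res g hg).obj ((clPush f).obj F) ⟶ (clPush f').obj ((res g' hg').obj F) :=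
  ⟨{ app := fun A => F.obj.map (tau w hg hg' A.unop).op
     naturality := fun A B a => by
       change F.obj.map ((clBC f).map ((post g hg).map a.unop)).op ≫ F.obj.map _ =
         F.obj.map _ ≫ F.obj.map ((post g' hg').map ((clBC f').map a.unop)).op
       rw [← Functor.map_comp, ← Functor.map_comp, ← op_comp, ← op_comp]
       rfl }⟩

open Groth.Agent.EtpbcB.MateCalc

theorem bc_res (F : Cl.Ab X) :
    bcExp w hg hg' F = bc (resAdj g hg) (resAdj g' hg') (clsq w).hom F := by
  apply bc_unique
  apply cl_hom_ext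
  intro U
  change F.obj.map ((clBC f).map ((postAdj g hg).counit.app U)).op ≫
      F.obj.map (tau w hg hg' ((clBC g).obj U)).op =
    F.obj.map ((postAdj g' hg').counit.app ((clBC f).obj U)).op ≫
      F.obj.map ((post g' hg').map ((theta w).inv.app U)).op
  rw [← Functor.map_comp, ← Functor.map_comp, ← op_comp, ← op_comp]
  rfl

include hg hg' in
/-- Degree zero base change along a local homeomorphism. -/
theorem isIso_bc (hw : Cart w) (F : Cl.Ab X) : IsIso (bc (clAdj g) (clAdj g') (clsq w).hom F) := by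
  refine isIso_bc_of_isIso (clAdj g) (resAdj g hg) (clAdj g') (resAdj g' hg') _ F ?_
  rw [← bc_res]
  refine isIso_of_app _ fun A => ?_
  have : IsIso (tau w hg hg' A) := isIso_of_bijective _ (tau_bijective w hg hg' hw A)
  exact inferInstanceAs (IsIso (F.obj.map (tau w hg hg' A).op))

include hg hg' in
/-- **Base change along a local homeomorphism**, for all objects of the derived category. -/
theorem clBC_of_localHomeo (hw : Cart w) (K : DCl X) : ClBC w K := by
  rw [ClBC_iff]
  obtain ⟨I, hI, ⟨e⟩⟩ := exists_kinj K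
  have h2 := isKInjective_clPull g' hg' I
  exact isIso_bcD_of_iso _ e.symm (isIso_bcD_Q _ I (isIso_unitQ_of_isKInjective _ I hI)
    (isIso_unitQ_of_isKInjective _ _ h2)
    (fun i => isIso_bc w hg hg' hw (I.X i)))

end square

end Groth.Agent.An.H449.ClEt
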