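import Groth.Agent.An.H449.ClEt
import Groth.Agent.An.H891.CompSq

/-!
# The comparison of direct images under étale base change

* `cart`: a cartesian square of schemes over `ℂ` is cartesian on complex points;
* `base_change_etale`: `Comp f K → Comp f' (g'^* K)` for the base change along an étale morphism;
* `isIso_of_clPullD`: joint conservativity of `clPullD` for jointly surjective families of local
  homeomorphisms; `of_etale_cover`: `Comp` is étale local on the target.
-/

set_option autoImplicit false
set_option linter.unusedSectionVars false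
open CategoryTheory CategoryTheory.Limits AlgebraicGeometry Opposite TopologicalSpace Topology An

attribute [local instance] HasDerivedCategory.standard

noncomputable section
namespace Groth.Agent.An.H449.CompEt

open Groth.Agent.An.H884.ClBC Groth.Agent.An.H891.ClSq Groth.Agent.An.H449.Post
  Groth.Agent.An.H449.ClEt Groth.Agent.An.H891.CompSq Groth.Agent.An.H891.Geom
  Groth.Agent.Etrest.RDer3 Groth.Agent.Etrest.RDer4 Groth.Agent.Etrest.RDer5
  Groth.Agent.Etrest.DEtPush Groth.Agent.EtpbcB

section cart

variable {X Y X' Y' : Scheme.{0}} [X.Over An.SC] [Y.Over An.SC] [X'.Over An.SC] [Y'.Over An.SC]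
  {f : X ⟶ Y} {g : Y' ⟶ Y} {f' : X' ⟶ Y'} {g' : X' ⟶ X}
  [f.IsOver An.SC] [g.IsOver An.SC] [f'.IsOver An.SC] [g'.IsOver An.SC]

theorem cart (h : IsPullback g' f' f g) : Cart (mapC_sq h.w) := by
  intro x y' e
  have e1 : x.1 ≫ f = y'.1 ≫ g := congrArg Subtype.val e
  refine ⟨⟨h.lift x.1 y'.1 e1, ?_⟩, ⟨Subtype.ext (h.lift_fst _ _ _), Subtype.ext (h.lift_snd _ _ _)⟩, ?_⟩
  · rw [← comp_over g' An.SC, h.lift_fst_assoc]
    exact x.2
  · rintro z ⟨h1, h2⟩
    apply Subtype.ext
    apply h.hom_ext
    · rw [h.lift_fst]
      exact congrArg Subtype.val h1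
    · rw [h.lift_snd]
      exact congrArg Subtype.val h2

variable [LocallyOfFiniteType (X ↘ An.SC)] [LocallyOfFiniteType (Y ↘ An.SC)]
  [LocallyOfFiniteType (X' ↘ An.SC)] [LocallyOfFiniteType (Y' ↘ An.SC)]

/-- Topological base change along an étale morphism. -/
theorem clBC_etale (h : IsPullback g' f' f g) [Etale g] (K : DCl (An.Pts X)) :
    ClBC (mapC_sq h.w) K := by
  have hg' : Etale g' := MorphismProperty.of_isPullback (P := @Etale) h.flip inferInstance
  exact clBC_of_localHomeo _ (Groth.Agent.An.H866.EtLH.isLocalHomeomorph_map g)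
    (Groth.Agent.An.H866.EtLH.isLocalHomeomorph_map g') (cart h) K

/-- **The comparison is stable under étale base change.** -/
theorem base_change_etale (h : IsPullback g' f' f g) [Etale g] {K : DCoh.DEt X} (hK : Comp f K) :
    Comp f' ((pullD g').obj K) :=
  Comp.base_change h.w hK (Groth.Agent.Sga4h.GSq.bc_of_etale h K) (clBC_etale h _)

end cart

end Groth.Agent.An.H449.CompEt
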