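import Groth.Agent.An.H449.CompEt
import Groth.Agent.An.H890.Conserv
import Groth.Agent.An.H871.Surj

/-!
# The comparison of direct images is étale local on the target

* `isIso_of_clPullD`: joint conservativity of derived inverse images on the classical sites;
* `of_etale_cover`: `Comp f K` may be checked after base change along a jointly surjective family of
  étale morphisms (of the target).
-/

set_option autoImplicit false
set_option linter.unusedSectionVars false
open CategoryTheory CategoryTheory.Limits AlgebraicGeometry Opposite TopologicalSpace Topology An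

attribute [local instance] HasDerivedCategory.standard

noncomputable section
namespace Groth.Agent.An.H449.CompLocal

open Groth.Agent.An.H884.ClBC Groth.Agent.An.H891.ClSq Groth.Agent.An.H449.Post
  Groth.Agent.An.H449.ClEt Groth.Agent.An.H449.CompEt Groth.Agent.An.H891.CompSq
  Groth.Agent.An.H891.Geom
  Groth.Agent.Etrest.RDer3 Groth.Agent.Etrest.RDer4 Groth.Agent.Etrest.RDer5
  Groth.Agent.Etrest.DEtPush Groth.Agent.EtpbcB

section conserv

variable {T : Type} [TopologicalSpace T]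

/-- Joint conservativity of the derived inverse images of a jointly surjective family. -/
theorem isIso_of_clPullD {ι : Type*} {P : ι → Type} [∀ i, TopologicalSpace (P i)]
    (g : ∀ i, C(P i, T)) (hg : ∀ t : T, ∃ (i : ι) (p : P i), g i p = t)
    {K L : DCl T} (φ : K ⟶ L) (hφ : ∀ i, IsIso ((clPullD (g i)).map φ)) : IsIso φ := by
  rw [DerivedCategory.isIso_iff]
  intro n
  refine Groth.Agent.An.H890.Conserv.isIso_of_pullCl g hg _ fun i => ?_
  have h1 := hφ i
  exact (Dcoh.MapDer.isIso_homology_map_iff (clPull (g i)) φ n).1 inferInstance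

end conserv

section general

universe v₁ v₂ v₃ v₄ v₅ v₆ u₁ u₂ u₃ u₄ u₅ u₆

variable {A : Type u₁} [Category.{v₁} A] [Abelian A] {B : Type u₂} [Category.{v₂} B] [Abelian B]
  {A' : Type u₃} [Category.{v₃} A'] [Abelian A'] {B' : Type u₄} [Category.{v₄} B'] [Abelian B']
  {f : GM A B} {g : GM B' B} {f' : GM A' B'} {g' : GM A' A} {α : g'.R ⋙ f.R ≅ f'.R ⋙ g.R}

/-- Base change can be checked after a jointly conservative family of base changes. -/
theorem bc_of_local [HasKInj A] [HasKInj A'] {ι : Type*}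
    {A'' : ι → Type u₅} [∀ i, Category.{v₅} (A'' i)] [∀ i, Abelian (A'' i)]
    {B'' : ι → Type u₆} [∀ i, Category.{v₆} (B'' i)] [∀ i, Abelian (B'' i)]
    (h : ∀ i, GM (B'' i) B') (h' : ∀ i, GM (A'' i) A') (f'' : ∀ i, GM (A'' i) (B'' i))
    (gh : ∀ i, GM (B'' i) B) (gh' : ∀ i, GM (A'' i) A)
    (β : ∀ i, (h' i).R ⋙ f'.R ≅ (f'' i).R ⋙ (h i).R)
    (γ : ∀ i, (gh' i).R ⋙ f.R ≅ (f'' i).R ⋙ (gh i).R)
    (c : ∀ i, (h i).R ⋙ g.R ≅ (gh i).R) (c' : ∀ i, (h' i).R ⋙ g'.R ≅ (gh' i).R)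
    (H : ∀ i, HCoh α (β i) (γ i) (c i) (c' i))
    (hc : ∀ {M N : DerivedCategory B'} (φ : M ⟶ N), (∀ i, IsIso ((h i).LD.map φ)) → IsIso φ)
    (K : DerivedCategory A) (hβ : ∀ i, BC (β i) (g'.LD.obj K)) (hγ : ∀ i, BC (γ i) K) :
    BC α K :=
  Groth.Agent.Sga4h.RPair.Sq.BC.of_local (dsq α) (fun i => dsq (β i)) hc
    (f.hasUniv K) (f'.hasUniv _) hβ (fun i => (bc_hcomp_iff (H i) K).2 (hγ i))

end general

section cover

variable {X Y : Scheme.{0}} [X.Over An.SC] [Y.Over An.SC] {f : X ⟶ Y} [f.IsOver An.SC]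
  [LocallyOfFiniteType (X ↘ An.SC)] [LocallyOfFiniteType (Y ↘ An.SC)]

theorem exists_pts_lift {ι : Type*} {U : ι → Scheme.{0}} [∀ i, (U i).Over An.SC]
    [∀ i, LocallyOfFiniteType (U i ↘ An.SC)] (u : ∀ i, U i ⟶ Y) [∀ i, (u i).IsOver An.SC]
    (hu : ∀ y : Y, ∃ (i : ι) (x : U i), (u i) x = y) (t : An.Pts Y) :
    ∃ (i : ι) (p : An.Pts (U i)), An.Pts.mapC (u i) p = t := by
  obtain ⟨i, x, hx⟩ := hu t.pt
  obtain ⟨p, hp⟩ := Groth.Agent.An.H871.Surj.exists_map_eq_of_mem_range (u i) t ⟨x, hx⟩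
  exact ⟨i, p, hp⟩

/-- **The comparison is étale local on the target.** -/
theorem of_etale_cover {ι : Type*} {U : ι → Scheme.{0}} [∀ i, (U i).Over An.SC]
    [∀ i, LocallyOfFiniteType (U i ↘ An.SC)] (u : ∀ i, U i ⟶ Y) [∀ i, (u i).IsOver An.SC]
    [∀ i, Etale (u i)] (hu : ∀ y : Y, ∃ (i : ι) (x : U i), (u i) x = y)
    {V : ι → Scheme.{0}} [∀ i, (V i).Over An.SC] [∀ i, LocallyOfFiniteType (V i ↘ An.SC)]
    (v : ∀ i, V i ⟶ X) [∀ i, (v i).IsOver An.SC] (f' : ∀ i, V i ⟶ U i) [∀ i, (f' i).IsOver An.SC]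
    (h : ∀ i, IsPullback (v i) (f' i) f (u i)) (K : DCoh.DEt X)
    (hK : ∀ i, Comp (f' i) ((pullD (v i)).obj K)) : Comp f K := by
  have h1 : ∀ i, BC (f := gEt f) (g := (gEps (U i)).comp (gEt (u i))) (f' := gCl (An.Pts.mapC (f' i)))
      (g' := (gEps (V i)).comp (gEt (v i))) (diagSq (h i).w) K := fun i =>
    DiagBC.of_et (Groth.Agent.Sga4h.GSq.bc_of_etale (h i) K) (hK i)
  exact bc_of_local (f := gEt f) (g := gEps Y) (f' := gCl (An.Pts.mapC f)) (g' := gEps X)
    (α := gam f) (fun i => gCl (An.Pts.mapC (u i))) (fun i => gCl (An.Pts.mapC (v i)))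
    (fun i => gCl (An.Pts.mapC (f' i))) (fun i => (gEps (U i)).comp (gEt (u i)))
    (fun i => (gEps (V i)).comp (gEt (v i))) (fun i => clsq (mapC_sq (h i).w))
    (fun i => diagSq (h i).w) (fun i => (gam (u i)).symm) (fun i => (gam (v i)).symm)
    (fun i => hcoh_an (h i).w)
    (fun φ hφ => isIso_of_clPullD (fun i => An.Pts.mapC (u i)) (exists_pts_lift u hu) φ hφ)
    K (fun i => clBC_etale (h i) _) h1

end cover

end Groth.Agent.An.H449.CompLocal
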