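import Groth.Agent.An.H891.ClSq
import Groth.Agent.Etcore.ShriekExact
import Groth.Agent.PerfB.DQAdj

/-!
# Restriction along a local homeomorphism on the classical sites

For `g : C(T', T)` with `hg : IsLocalHomeomorph g`:
* `post g hg : Cl T' ⥤ Cl T` (composition with `g`), `postAdj : post g hg ⊣ clBC g`;
* `res g hg : Cl.Ab T ⥤ Cl.Ab T'` (restriction), `resAdj : res g hg ⊣ clPush g`,
  `pullIso : clPull g ≅ res g hg`;
* `ext g hg ⊣ res g hg` (extension by zero), exact.
* `isKInjective_clPull`: `clPull g` preserves K-injective complexes.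
-/

set_option autoImplicit false
open CategoryTheory CategoryTheory.Limits Opposite TopologicalSpace Topology An

noncomputable section
namespace Groth.Agent.An.H449.Post

open Groth.Agent.An.H884.ClBC Groth.Agent.An.H891.ClSq

variable {T T' : Type} [TopologicalSpace T] [TopologicalSpace T'] (g : C(T', T))
  (hg : IsLocalHomeomorph g)

/-- Composition with a local homeomorphism. -/
def post : Cl T' ⥤ Cl T where
  obj A := ⟨A.E, g ∘ A.p, hg.comp A.lh⟩
  map a := ⟨a.toFun, a.continuous, fun x => congrArg g (a.over x)⟩
  map_id _ := rfl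
  map_comp _ _ := rfl

/-- `post g ⊣ clBC g`. -/
def postAdj : post g hg ⊣ clBC g := Adjunction.mkOfUnitCounit
  { unit :=
      { app := fun A => ⟨fun a => ⟨(A.p a, a), rfl⟩,
          Continuous.subtype_mk (A.lh.continuous.prodMk continuous_id) _, fun _ => rfl⟩
        naturality := fun A B f => by
          apply Cl.hom_ext
          funext a
          exact Subtype.ext (Prod.ext (f.over a) rfl) }
    counit :=
      { app := fun U => ⟨fun q => q.1.2, continuous_snd.comp continuous_subtype_val,
          fun q => q.2.symm⟩
        naturality := fun A B f => rfl }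
    left_triangle := by
      ext A : 2
      rfl
    right_triangle := by
      ext U : 2
      apply Cl.hom_ext
      funext q
      exact Subtype.ext (Prod.ext rfl rfl) }

@[simp] lemma postAdj_unit_toFun (A : Cl T') (a : A.E) :
    (((postAdj g hg).unit.app A).toFun a).1 = (A.p a, a) := rfl

@[simp] lemma postAdj_counit_toFun (U : Cl T) (q : ((clBC g).obj U).E) :
    ((postAdj g hg).counit.app U).toFun q = q.1.2 := rfl

theorem coverPreserving_post :
    CoverPreserving (Cl.topology T') (Cl.topology T) (post g hg) where
  cover_preserve {A S} hS := by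
    intro a
    obtain ⟨B, k, hSk, hk, b, hb⟩ := hS a
    exact ⟨(post g hg).obj B, (post g hg).map k, Sieve.image_mem_functorPushforward _ _ hSk, hk,
      b, hb⟩

theorem compatiblePreserving_post : CompatiblePreserving (Cl.topology T) (post g hg) where
  compatible {F Z _ x hx Y₁ Y₂ W f₁ f₂ g₁ g₂ hg₁ hg₂ h} := by
    have h' : ∀ w : W.E, g₁.toFun (f₁.toFun w) = g₂.toFun (f₂.toFun w) := fun w =>
      congrArg (fun k : W ⟶ (post g hg).obj Z => k.toFun w) h
    have hlh : IsLocalHomeomorph (Y₁.p ∘ f₁.toFun) :=
      Y₁.lh.comp (isLocalHomeomorph_toFun f₁)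
    let W' : Cl T' := ⟨W.E, Y₁.p ∘ f₁.toFun, hlh⟩
    let g₁' : W' ⟶ Y₁ := ⟨f₁.toFun, f₁.continuous, fun _ => rfl⟩
    let g₂' : W' ⟶ Y₂ := ⟨f₂.toFun, f₂.continuous, fun w => by
      change Y₂.p (f₂.toFun w) = Y₁.p (f₁.toFun w)
      rw [← g₂.over, ← g₁.over, h' w]⟩
    have eo : ∀ w : W.E, ((post g hg).obj W').p w = W.p w := fun w => f₁.over w
    let e : W ⟶ (post g hg).obj W' := ⟨id, continuous_id, fun w => eo w⟩
    have key := congr_arg (F.obj.map e.op)
      (hx g₁' g₂' hg₁ hg₂ (by
        apply Cl.hom_ext
        funext w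
        exact h' w))
    have b1 : F.obj.map e.op (F.obj.map ((post g hg).map g₁').op (x g₁ hg₁)) =
        F.obj.map f₁.op (x g₁ hg₁) := by
      rw [← Functor.map_comp_apply, ← op_comp]
      rfl
    have b2 : F.obj.map e.op (F.obj.map ((post g hg).map g₂').op (x g₂ hg₂)) =
        F.obj.map f₂.op (x g₂ hg₂) := by
      rw [← Functor.map_comp_apply, ← op_comp]
      rfl
    rw [← b1, ← b2]
    exact key

instance isContinuous_post :
    (post g hg).IsContinuous (Cl.topology T') (Cl.topology T) :=
  Functor.isContinuous_of_coverPreserving (compatiblePreserving_post g hg)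
    (coverPreserving_post g hg)

/-- Restriction along a local homeomorphism. -/
abbrev res : Cl.Ab T ⥤ Cl.Ab T' :=
  (post g hg).sheafPushforwardContinuous AddCommGrpCat.{1} (Cl.topology T') (Cl.topology T)

/-- Restriction is left adjoint to direct image. -/
abbrev resAdj : res g hg ⊣ clPush g :=
  (postAdj g hg).sheafPushforwardContinuous (Cl.topology T') (Cl.topology T)

/-- The inverse image along a local homeomorphism is the restriction. -/
def pullIso : clPull g ≅ res g hg := (clAdj g).leftAdjointUniq (resAdj g hg)

/-- Extension by zero. -/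
abbrev ext : Cl.Ab T' ⥤ Cl.Ab T :=
  (post g hg).sheafPullback AddCommGrpCat.{1} (Cl.topology T') (Cl.topology T)

/-- Extension by zero is left adjoint to restriction. -/
abbrev extAdj : ext g hg ⊣ res g hg :=
  (post g hg).sheafAdjunctionContinuous AddCommGrpCat.{1} (Cl.topology T') (Cl.topology T)

section exact

/-- The set of lifts of the structure map `W → T` to `T'`. -/
def LiftIdx (W : Cl T) : Type 1 := ULift.{1} {s : C(W.E, T') // ∀ w, g (s w) = W.p w}

variable {g}

include hg in
/-- The object of `Cl T'` given by a lift. -/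
def liftObj (W : Cl T) (φ : LiftIdx g W) : Cl T' :=
  ⟨W.E, φ.down.1, by
    have h : (⇑g ∘ ⇑φ.down.1) = W.p := funext φ.down.2
    have h1 : IsLocalHomeomorph (⇑g ∘ ⇑φ.down.1) := by rw [h]; exact W.lh
    exact h1.of_comp hg φ.down.1.continuous⟩

/-- The canonical map. -/
def liftHom (W : Cl T) (φ : LiftIdx g W) : W ⟶ (post g hg).obj (liftObj hg W φ) :=
  ⟨id, continuous_id, fun w => φ.down.2 w⟩

/-- The discrete category of lifts inside the costructured arrows. -/
def discFunctor (W : Cl T) :
    Discrete (LiftIdx g W) ⥤ CostructuredArrow (post g hg).op (op W) :=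
  Discrete.functor (fun φ =>
    CostructuredArrow.mk (Y := op (liftObj hg W φ)) (liftHom hg W φ).op)

set_option backward.isDefEq.respectTransparency.types false in
instance final_disc (W : Cl T) : (discFunctor hg W).Final where
  out c := by
    have hne : Nonempty (StructuredArrow c (discFunctor hg W)) := by
      let a : W ⟶ (post g hg).obj c.left.unop := c.hom.unop
      let φ : LiftIdx g W := ⟨⟨⟨c.left.unop.p ∘ a.toFun,
        c.left.unop.lh.continuous.comp a.continuous⟩, fun w => a.over w⟩⟩
      let f : liftObj hg W φ ⟶ c.left.unop := ⟨a.toFun, a.continuous, fun _ => rfl⟩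
      refine ⟨StructuredArrow.mk (Y := Discrete.mk φ) (CostructuredArrow.homMk f.op ?_)⟩
      apply Quiver.Hom.unop_inj
      rfl
    refine @zigzag_isConnected _ _ hne ?_
    intro p q
    obtain ⟨⟨⟨⟩⟩, ⟨φ⟩, f⟩ := p
    obtain ⟨⟨⟨⟩⟩, ⟨ψ⟩, k⟩ := q
    let a : W ⟶ (post g hg).obj c.left.unop := c.hom.unop
    let f' : liftObj hg W φ ⟶ c.left.unop := f.left.unop
    let k' : liftObj hg W ψ ⟶ c.left.unop := k.left.unop
    have hf : f'.toFun = a.toFun := by
      have := congrArg (fun k => k.unop) (CostructuredArrow.w f)
      exact congrArg Cl.Hom.toFun this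
    have hk : k'.toFun = a.toFun := by
      have := congrArg (fun k => k.unop) (CostructuredArrow.w k)
      exact congrArg Cl.Hom.toFun this
    have h1 : φ = ψ := by
      apply ULift.ext
      apply Subtype.ext
      apply ContinuousMap.ext
      intro w
      have e1 : c.left.unop.p (f'.toFun w) = φ.down.1 w := f'.over w
      have e2 : c.left.unop.p (k'.toFun w) = ψ.down.1 w := k'.over w
      rw [← e1, ← e2, hf, hk]
    subst h1
    have h2 : f = k := by
      apply CostructuredArrow.hom_ext
      apply Quiver.Hom.unop_inj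
      exact Cl.hom_ext (hf.trans hk.symm)
    subst h2
    exact Zigzag.refl _

instance hasExactColimitsOfShape_costr (W : (Cl T)ᵒᵖ) :
    HasExactColimitsOfShape (CostructuredArrow (post g hg).op W) AddCommGrpCat.{1} :=
  hasExactColimitsOfShape_of_final _ (discFunctor hg W.unop)

instance preservesFiniteLimits_lan :
    PreservesFiniteLimits ((post g hg).op.lan :
      ((Cl T')ᵒᵖ ⥤ AddCommGrpCat.{1}) ⥤ _) where
  preservesFiniteLimits J _ _ :=
    Groth.Agent.Etcore.ShriekExact.preservesLimitsOfShape_lan J _ (fun W => inferInstance)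

variable (g)

instance preservesFiniteLimits_ext : PreservesFiniteLimits (ext g hg) := by
  have : PreservesFiniteLimits ((post g hg).op.lan ⋙
      presheafToSheaf (Cl.topology T) AddCommGrpCat.{1}) :=
    comp_preservesFiniteLimits _ _
  have : PreservesFiniteLimits (Functor.sheafPullbackConstruction.sheafPullback
      (post g hg) AddCommGrpCat.{1} (Cl.topology T') (Cl.topology T)) :=
    comp_preservesFiniteLimits _ _
  exact preservesFiniteLimits_of_natIso
    (Functor.sheafPullbackConstruction.sheafPullbackIso
      (post g hg) AddCommGrpCat.{1} (Cl.topology T') (Cl.topology T)).symm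

instance preservesFiniteColimits_ext : PreservesFiniteColimits (ext g hg) :=
  have : PreservesColimitsOfSize.{0, 0} (ext g hg) := (extAdj g hg).leftAdjoint_preservesColimits
  PreservesColimitsOfSize.preservesFiniteColimits _

instance additive_ext : (ext g hg).Additive := Functor.additive_of_preserves_binary_products _

/-- Extension by zero, as a left adjoint of the inverse image. -/
def extPullAdj : ext g hg ⊣ clPull g := (extAdj g hg).ofNatIsoRight (pullIso g hg).symm

include hg in
/-- K-injective complexes are preserved by inverse images along local homeomorphisms. -/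
theorem isKInjective_clPull (I : CochainComplex (Cl.Ab T) ℤ) [I.IsKInjective] :
    CochainComplex.IsKInjective (((clPull g).mapHomologicalComplex (ComplexShape.up ℤ)).obj I) :=
  Groth.Agent.PerfB.DQAdj.isKInjective_mapCx (extPullAdj g hg) I

end exact

end Groth.Agent.An.H449.Post
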