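import Groth.Agent.Sga4h.OpenClosed
import Groth.Agent.Sga4h.GeoDim2
import Groth.Agent.EtpbcA.CharPDim
import Groth.Agent.Etcore.Torsion
import Groth.Agent.Ega1.ReducedSub

/-!
# Complexes on `Y_et` which die on a dense open subscheme (package [SUP] of the plan for S4219)

`exists_closed_compl`: for `u : U ⟶ Y` a dense open immersion into a locally Noetherian scheme, the
reduced closed complement `i : Z ⟶ Y` satisfies `dim Z < n` as soon as `dim Y ≤ n`, and every complex
`K : D(Y_et)` with `u^* K = 0` satisfies `K ≅ Ri_* i^* K` (the unit is an isomorphism).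

`hyp_pullD`: torsion/constructible cohomology is inherited by inverse images.
-/

set_option autoImplicit false
universe u

open CategoryTheory CategoryTheory.Limits Opposite AlgebraicGeometry Pretriangulated
open DerivedCategory (homologyFunctor singleFunctor)

attribute [local instance] HasDerivedCategory.standard

namespace Groth.Agent.An.H449.Sup

open Groth.Agent.Etrest Groth.Agent.Etrest.DEtPush Groth.Agent.Sga4h.AdmCx Groth.Agent.Sga4h.OpenClosed

variable {X Y Z U : Scheme.{u}}

/-- The cohomology sheaves of `g^* K`. -/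
theorem nonempty_HDEt_pullD (g : X ⟶ Y) (K : DCoh.DEt Y) (n : ℤ) :
    Nonempty (DCoh.HDEt ((pullD g).obj K) n ≅ (EtCoh.pull g).obj (DCoh.HDEt K n)) :=
  ⟨Dcoh.MapDer.homologyMapDerApp (EtCoh.pull g) n K⟩

theorem isTorsion_HDEt_pullD (g : X ⟶ Y) (K : DCoh.DEt Y) (n : ℤ)
    (h : EtCoh.IsTorsion (DCoh.HDEt K n)) : EtCoh.IsTorsion (DCoh.HDEt ((pullD g).obj K) n) := by
  obtain ⟨e⟩ := nonempty_HDEt_pullD g K n
  exact EtpbcB.TorsionBasic.isTorsion_of_iso e.symm (Etcore.Torsion.isTorsion_pull g _ h)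

theorem isConstructible_HDEt_pullD (g : X ⟶ Y) (K : DCoh.DEt Y) (n : ℤ)
    (h : EtPBC.IsConstructible (DCoh.HDEt K n)) :
    EtPBC.IsConstructible (DCoh.HDEt ((pullD g).obj K) n) := by
  obtain ⟨e⟩ := nonempty_HDEt_pullD g K n
  have : EtCoh.BCCont g := EtCoh.bcCont g
  exact (ConsClass.cons X).prop_of_iso e.symm (Groth.Agent.S0127.result g _ h)

theorem exists_isGE_pullD (g : X ⟶ Y) (K : DCoh.DEt Y) (h : ∃ a : ℤ, K.IsGE a) :
    ∃ a : ℤ, ((pullD g).obj K).IsGE a := by
  obtain ⟨a, ha⟩ := h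
  exact ⟨a, Dcoh.MapDer.isGE_map (EtCoh.pull g) a K⟩

/-- `D^+` with torsion constructible cohomology is stable under inverse images. -/
theorem hyp_pullD (g : X ⟶ Y) (K : DCoh.DEt Y)
    (h : (∃ a : ℤ, K.IsGE a) ∧ ∀ n, EtCoh.IsTorsion (DCoh.HDEt K n) ∧
      EtPBC.IsConstructible (DCoh.HDEt K n)) :
    (∃ a : ℤ, ((pullD g).obj K).IsGE a) ∧ ∀ n, EtCoh.IsTorsion (DCoh.HDEt ((pullD g).obj K) n) ∧
      EtPBC.IsConstructible (DCoh.HDEt ((pullD g).obj K) n) :=
  ⟨exists_isGE_pullD g K h.1, fun n => ⟨isTorsion_HDEt_pullD g K n (h.2 n).1,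
    isConstructible_HDEt_pullD g K n (h.2 n).2⟩⟩

/-- A closed subscheme disjoint from a dense open of a locally Noetherian scheme has smaller
dimension. -/
theorem dim_lt_of_disjoint [IsLocallyNoetherian Y] (u : U ⟶ Y) [IsOpenImmersion u]
    (hu : Dense (Set.range u)) (i : Z ⟶ Y) [IsClosedImmersion i]
    (hd : Disjoint (Set.range i) (Set.range u)) (n : ℕ) (h : topologicalKrullDim Y ≤ n) :
    topologicalKrullDim Z < n := by
  refine EtpbcA.CharPDim.topologicalKrullDim_lt_of_forall i i.isClosedEmbedding.isInducing (fun z => ?_) n h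
  obtain ⟨x, hx, hxz⟩ := Sga4h.GeoDim.exists_mem_specializes_of_dense u.opensRange hu (i z)
  refine ⟨x, hxz, ?_⟩
  rintro rfl
  exact Set.disjoint_left.mp hd ⟨z, rfl⟩ hx

/-- The reduced closed complement of an open immersion. -/
theorem exists_compl (u : U ⟶ Y) [IsOpenImmersion u] :
    ∃ (Z : Scheme.{u}) (i : Z ⟶ Y), IsClosedImmersion i ∧ IsReduced Z ∧
      Set.range i = (Set.range u)ᶜ := by
  let C : TopologicalSpace.Closeds Y := ⟨(Set.range u)ᶜ, u.isOpenEmbedding.isOpen_range.isClosed_compl⟩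
  refine ⟨(Scheme.IdealSheafData.vanishingIdeal C).subscheme,
    (Scheme.IdealSheafData.vanishingIdeal C).subschemeι, inferInstance,
    Ega1.ReducedSub.isReduced_subscheme_vanishingIdeal C, ?_⟩
  rw [Scheme.IdealSheafData.range_subschemeι]
  simp [C]

/-- A complex which dies on an open subscheme is the direct image of its restriction to any closed
subscheme supported on the complement. -/
theorem isIso_unit (u : U ⟶ Y) (i : Z ⟶ Y) [IsClosedImmersion i]
    (hi : Set.range i = (Set.range u)ᶜ) (K : DCoh.DEt Y) (h : IsZero ((pullD u).obj K)) :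
    IsIso ((dPullPush i).unit.app K) :=
  isIso_unit_of_isZero i u (by rw [hi, compl_compl]) K h

/-- [SUP], full form. -/
theorem exists_closed_compl [IsLocallyNoetherian Y] (u : U ⟶ Y) [IsOpenImmersion u]
    (hu : Dense (Set.range u)) :
    ∃ (Z : Scheme.{u}) (i : Z ⟶ Y), IsClosedImmersion i ∧ IsReduced Z ∧
      Set.range i = (Set.range u)ᶜ ∧
      (∀ n : ℕ, topologicalKrullDim Y ≤ n → topologicalKrullDim Z < n) ∧
      (∀ n : ℕ, topologicalKrullDim Y ≤ (n + 1 : ℕ) → topologicalKrullDim Z ≤ n) ∧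
      (∀ K : DCoh.DEt Y, IsZero ((pullD u).obj K) → IsIso ((dPullPush i).unit.app K)) := by
  obtain ⟨Z, i, hi, hr, hrange⟩ := exists_compl u
  have hd : Disjoint (Set.range i) (Set.range u) := by
    rw [hrange]; exact disjoint_compl_left
  refine ⟨Z, i, hi, hr, hrange, fun n h => dim_lt_of_disjoint u hu i hd n h, fun n h => ?_,
    fun K h => isIso_unit u i hrange K h⟩
  have h1 := dim_lt_of_disjoint u hu i hd (n + 1) h
  generalize topologicalKrullDim Z = d at h1
  induction d using WithBot.recBotCoe with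
  | bot => exact bot_le
  | coe d =>
    have h2 : d < ((n + 1 : ℕ) : ℕ∞) := by exact_mod_cast h1
    have h3 : d ≤ (n : ℕ∞) := by
      rw [Nat.cast_add, Nat.cast_one] at h2
      exact ENat.lt_natCast_add_one_iff.mp h2
    exact_mod_cast h3

end Groth.Agent.An.H449.Sup
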